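import Mathlib
import Groth.Agent.DPPolyLib.Exist

/-! Divided powers from the `p`-th one. -/

set_option autoImplicit false

open DividedPowers

universe u

namespace DPExtLib

open DPPolyLib

/-- `U p n`: the unit with `n! = U p n * p! ^ (n / p) * (n / p)!`. -/
def U (p n : ℕ) : ℕ := n.choose (n % p) * (n / p).uniformBell p * (n % p).factorial

theorem U_spec {p : ℕ} (hp : p ≠ 0) (n : ℕ) : U p n * p.factorial ^ (n / p) * (n / p).factorial = n.factorial := by
  have hn : n % p + n / p * p = n := Nat.mod_add_div' n p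
  have h1 := Nat.choose_mul_factorial_mul_factorial (Nat.mod_le n p)
  rw [show n - n % p = n / p * p by omega, ← Nat.uniformBell_mul_eq _ hp] at h1
  refine Eq.trans ?_ h1
  rw [U]
  ring

theorem not_dvd_U {p : ℕ} (hp : p.Prime) (n : ℕ) : ¬ p ∣ U p n := by
  haveI := Fact.mk hp
  have hchoose : ∀ m r, r < p → m % p = r → ¬ p ∣ m.choose r := by
    intro m r hr hm hd
    have h1 := Choose.choose_modEq_choose_mod_mul_choose_div_nat (n := m) (k := r) (p := p)
    rw [hm, Nat.mod_eq_of_lt hr, Nat.choose_self, Nat.div_eq_of_lt hr, Nat.choose_zero_right, one_mul] at h1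
    have h2 : 1 % p = 0 := h1 ▸ Nat.mod_eq_zero_of_dvd hd
    rw [Nat.mod_eq_of_lt hp.one_lt] at h2
    omega
  have hr : n % p < p := Nat.mod_lt _ hp.pos
  intro hd
  rw [U] at hd
  rcases hp.dvd_mul.1 hd with hd | hd
  · rcases hp.dvd_mul.1 hd with hd | hd
    · exact hchoose n _ hr rfl hd
    · rw [Nat.uniformBell_eq] at hd
      obtain ⟨i, -, hi⟩ := (Nat.prime_iff.1 hp).exists_mem_finset_dvd hd
      refine hchoose _ (p - 1) (Nat.sub_lt hp.pos one_pos) ?_ hi
      rw [show i * p + p - 1 = p - 1 + i * p by have := hp.pos; omega, Nat.add_mul_mod_self_right,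
        Nat.mod_eq_of_lt (Nat.sub_lt hp.pos one_pos)]
  · exact absurd (hp.dvd_factorial.1 hd) (Nat.not_le.2 hr)

variable {A : Type u} [CommRing A]

/-- The candidate divided powers. -/
noncomputable def g (p : ℕ) (d : A → A) (n : ℕ) (x : A) : A :=
  if _h : n = 0 ∨ p ≤ 1 then 1
  else Ring.inverse (U p n : A) * x ^ (n % p) * g p d (n / p) (d x)
termination_by n
decreasing_by exact Nat.div_lt_self (by omega) (by omega)

/-- Evaluation in the universal torsion free example. -/
theorem rules_one_pow_mul {g : Unit → ℕ → A} (hg : Rules g) (r q p : ℕ) :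
    g () 1 ^ r * g () q ^ p * ((q.factorial ^ p : ℕ) : A) = ((r + q * p).factorial : A) * g () (r + q * p) := by
  haveI : IsAddTorsionFree (Model ℤ Unit) := torsionFree_model _ _
  have hx := rules_xM ℤ Unit
  let φ := (isModel_model ℤ Unit).lift hg
  have hφ : ∀ k, φ (xM ℤ Unit () k) = g () k := fun k => (isModel_model ℤ Unit).lift_x hg () k
  have h : xM ℤ Unit () 1 ^ r * xM ℤ Unit () q ^ p * ((q.factorial ^ p : ℕ) : Model ℤ Unit) =
      ((r + q * p).factorial : Model ℤ Unit) * xM ℤ Unit () (r + q * p) := by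
    rw [← hx.one_pow, Nat.cast_pow, mul_assoc, ← mul_pow, mul_comm (xM ℤ Unit () q), ← hx.one_pow, ← pow_mul,
      ← pow_add]
  have := congrArg φ h
  simpa only [map_mul, map_pow, map_natCast, hφ] using this

section main

variable {p : ℕ} (hp : p.Prime) (hA : ∀ n : ℕ, ¬ p ∣ n → IsUnit (n : A)) {I : Ideal A} {d : A → A}
  (hdI : ∀ x ∈ I, d x ∈ I) (h1 : ∀ x ∈ I, (p.factorial : A) * d x = x ^ p)
  (h2 : ∀ (a x : A), x ∈ I → d (a * x) = a ^ p * d x)

include hp in
theorem g_zero (x : A) : g p d 0 x = 1 := by
  rw [g]; simp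

include hp hA in
theorem U_mul_g (n : ℕ) (x : A) : (U p n : A) * g p d n x = x ^ (n % p) * g p d (n / p) (d x) := by
  rcases eq_or_ne n 0 with rfl | hn
  · simp [g_zero hp, U, Nat.uniformBell_zero_left]
  · conv_lhs => rw [g, dif_neg (by rintro (h | h); exacts [hn h, absurd hp.one_lt (by omega)])]
    rw [← mul_assoc, ← mul_assoc, Ring.mul_inverse_cancel _ (hA _ (not_dvd_U hp n)), one_mul]

include hp hA in
theorem g_one (x : A) : g p d 1 x = x := by
  have := U_mul_g (d := d) hp hA 1 x
  simpa [U, Nat.mod_eq_of_lt hp.one_lt, Nat.div_eq_of_lt hp.one_lt, g_zero hp, Nat.uniformBell_zero_left] using this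

include hp hA hdI in
theorem g_mem : ∀ n : ℕ, n ≠ 0 → ∀ x ∈ I, g p d n x ∈ I := by
  intro n
  induction n using Nat.strong_induction_on with
  | _ n ih =>
    intro hn x hx
    obtain ⟨u, hu⟩ := hA _ (not_dvd_U hp n)
    have e := U_mul_g (d := d) hp hA n x
    rw [← hu] at e
    rw [(Units.eq_inv_mul_iff_mul_eq u).2 e]
    refine I.mul_mem_left _ ?_
    rcases eq_or_ne (n % p) 0 with hr | hr
    · have hq : n / p ≠ 0 := fun h => hn (by have := Nat.mod_add_div' n p; rw [hr, h] at this; simpa using this.symm)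
      exact I.mul_mem_left _ (ih _ (Nat.div_lt_self (Nat.pos_of_ne_zero hn) hp.one_lt) hq _ (hdI x hx))
    · exact I.mul_mem_right _ (I.pow_mem_of_mem hx _ (Nat.pos_of_ne_zero hr))

include hp hA hdI h1 in
theorem g_mul : ∀ N : ℕ, ∀ n m : ℕ, n + m = N → ∀ x ∈ I,
    g p d n x * g p d m x = ((n + m).choose n : A) * g p d (n + m) x := by
  intro N
  induction N using Nat.strong_induction_on with
  | _ N ih =>
    intro n m hN x hx
    subst hN
    rcases eq_or_ne n 0 with rfl | hn
    · simp [g_zero hp]
    rcases eq_or_ne m 0 with rfl | hm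
    · simp [g_zero hp]
    have hp0 : 0 < p := hp.pos
    have hnd := Nat.mod_add_div' n p
    have hmd := Nat.mod_add_div' m p
    have hU := fun k => hA _ (not_dvd_U hp k)
    refine ((hU n).mul (hU m)).mul_left_cancel ?_
    rw [mul_mul_mul_comm, U_mul_g hp hA, U_mul_g hp hA]
    have hlt : n / p + m / p < n + m := by
      have := Nat.div_lt_self (Nat.pos_of_ne_zero hn) hp.one_lt
      have := Nat.div_le_self m p
      omega
    have hq := ih _ hlt (n / p) (m / p) rfl (d x) (hdI x hx)
    have hfac : ∀ q, 0 < p.factorial ^ q := fun q => pow_pos p.factorial_pos q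
    refine (hU (n + m)).mul_left_cancel ?_
    rcases Nat.lt_or_ge (n % p + m % p) p with hr | hr
    · have hR : (n + m) % p = n % p + m % p := by rw [Nat.add_mod, Nat.mod_eq_of_lt hr]
      have hQ : (n + m) / p = n / p + m / p := by
        have := Nat.mod_add_div' (n + m) p
        rw [hR] at this
        exact Nat.eq_of_mul_eq_mul_right hp0 (by rw [add_mul]; omega)
      have hN : U p (n + m) * (n / p + m / p).choose (n / p) = (n + m).choose n * (U p n * U p m) := by
        apply Nat.eq_of_mul_eq_mul_right (Nat.mul_pos (hfac (n / p + m / p))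
          (Nat.mul_pos (n / p).factorial_pos (m / p).factorial_pos))
        calc _ = U p (n + m) * p.factorial ^ (n / p + m / p) *
              ((n / p + m / p).choose (n / p) * (n / p).factorial * (m / p).factorial) := by ring
          _ = (n + m).factorial := by
            rw [← U_spec hp.ne_zero (n + m), hQ, Nat.choose_symm_add, Nat.add_choose_mul_factorial_mul_factorial]
          _ = (n + m).choose n * (U p n * p.factorial ^ (n / p) * (n / p).factorial) *
              (U p m * p.factorial ^ (m / p) * (m / p).factorial) := by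
            rw [U_spec hp.ne_zero, U_spec hp.ne_zero, Nat.choose_symm_add, Nat.add_choose_mul_factorial_mul_factorial]
          _ = _ := by rw [pow_add]; ring
      have hN' := congrArg (Nat.cast : ℕ → A) hN
      push_cast at hN'
      calc (U p (n + m) : A) * (x ^ (n % p) * g p d (n / p) (d x) * (x ^ (m % p) * g p d (m / p) (d x)))
          = (U p (n + m) : A) * x ^ (n % p + m % p) * (g p d (n / p) (d x) * g p d (m / p) (d x)) := by ring
        _ = ((U p (n + m) : A) * ((n / p + m / p).choose (n / p) : A)) *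
            (x ^ ((n + m) % p) * g p d ((n + m) / p) (d x)) := by rw [hq, hR, hQ]; ring
        _ = _ := by rw [hN', ← U_mul_g hp hA]; ring
    · have hr' : n % p + m % p - p < p := by have := Nat.mod_lt n hp0; have := Nat.mod_lt m hp0; omega
      have hR : (n + m) % p = n % p + m % p - p := by
        rw [Nat.add_mod, Nat.mod_eq_sub_mod hr, Nat.mod_eq_of_lt hr']
      have hQ : (n + m) / p = n / p + m / p + 1 := by
        have := Nat.mod_add_div' (n + m) p
        rw [hR] at this
        exact Nat.eq_of_mul_eq_mul_right hp0 (by rw [add_mul, add_mul]; omega)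
      have hlt' : n / p + m / p + 1 < n + m := by
        rw [← hQ]; exact Nat.div_lt_self (by omega) hp.one_lt
      have hq1 := ih _ hlt' (n / p + m / p) 1 rfl (d x) (hdI x hx)
      rw [g_one hp hA, Nat.choose_succ_self_right] at hq1
      have hN : U p (n + m) * p.factorial * (n / p + m / p).choose (n / p) * (n / p + m / p + 1) =
          (n + m).choose n * (U p n * U p m) := by
        apply Nat.eq_of_mul_eq_mul_right (Nat.mul_pos (hfac (n / p + m / p))
          (Nat.mul_pos (n / p).factorial_pos (m / p).factorial_pos))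
        calc _ = U p (n + m) * p.factorial ^ (n / p + m / p + 1) * ((n / p + m / p + 1) *
              ((n / p + m / p).choose (n / p) * (n / p).factorial * (m / p).factorial)) := by ring
          _ = (n + m).factorial := by
            rw [← U_spec hp.ne_zero (n + m), hQ, Nat.choose_symm_add, Nat.add_choose_mul_factorial_mul_factorial,
              Nat.factorial_succ]
          _ = (n + m).choose n * (U p n * p.factorial ^ (n / p) * (n / p).factorial) *
              (U p m * p.factorial ^ (m / p) * (m / p).factorial) := by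
            rw [U_spec hp.ne_zero, U_spec hp.ne_zero, Nat.choose_symm_add, Nat.add_choose_mul_factorial_mul_factorial]
          _ = _ := by rw [pow_add]; ring
      have hN' := congrArg (Nat.cast : ℕ → A) hN
      push_cast at hN'
      calc (U p (n + m) : A) * (x ^ (n % p) * g p d (n / p) (d x) * (x ^ (m % p) * g p d (m / p) (d x)))
          = (U p (n + m) : A) * x ^ (n % p + m % p) * (g p d (n / p) (d x) * g p d (m / p) (d x)) := by ring
        _ = (U p (n + m) : A) * (x ^ ((n + m) % p) * ((p.factorial : A) * d x)) *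
            (((n / p + m / p).choose (n / p) : A) * g p d (n / p + m / p) (d x)) := by
            rw [hq, h1 x hx, ← pow_add, hR, Nat.sub_add_cancel hr]
        _ = (U p (n + m) : A) * (p.factorial : A) * ((n / p + m / p).choose (n / p) : A) *
            (x ^ ((n + m) % p) * (g p d (n / p + m / p) (d x) * d x)) := by ring
        _ = ((U p (n + m) : A) * (p.factorial : A) * ((n / p + m / p).choose (n / p) : A) *
            ((n / p + m / p : ℕ) + 1 : A)) * (x ^ ((n + m) % p) * g p d ((n + m) / p) (d x)) := by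
            rw [hq1, hQ]; push_cast; ring
        _ = _ := by push_cast; rw [hN', ← U_mul_g hp hA]; ring

include hp hA hdI h1 in
theorem rules_g : Rules (fun (x : I) n => g p d n (x : A)) :=
  ⟨fun _ => g_zero hp _, fun x n m => g_mul hp hA hdI h1 _ n m rfl x x.2⟩

include hp hA hdI h1 h2 in
theorem d_g : ∀ n : ℕ, n ≠ 0 → ∀ x ∈ I, d (g p d n x) = (p.uniformBell n : A) * g p d (p * n) x := by
  intro n
  induction n using Nat.strong_induction_on with
  | _ n ih =>
    intro hn x hx
    obtain ⟨u, hu⟩ := hA _ (not_dvd_U hp n)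
    have hp0 := hp.pos
    have hnd := Nat.mod_add_div' n p
    have e := U_mul_g (d := d) hp hA n x
    rw [← hu] at e
    have hUP : (U p (p * n) : A) * g p d (p * n) x = g p d n (d x) := by
      rw [U_mul_g hp hA, Nat.mul_mod_right, Nat.mul_div_cancel_left _ hp0, pow_zero, one_mul]
    refine ((hA _ (not_dvd_U hp (p * n))).mul ((hA _ (not_dvd_U hp n)).pow p)).mul_left_cancel ?_
    have hL : (U p n : A) ^ p * d (g p d n x) = d (x ^ (n % p) * g p d (n / p) (d x)) := by
      rw [← h2 _ _ (g_mem hp hA hdI n hn x hx), U_mul_g hp hA]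
    calc (U p (p * n) : A) * (U p n : A) ^ p * d (g p d n x)
        = (U p (p * n) : A) * ((U p n : A) ^ p * d (g p d n x)) := by ring
      _ = (U p (p * n) : A) * d (x ^ (n % p) * g p d (n / p) (d x)) := by rw [hL]
      _ = ((U p n ^ p * p.uniformBell n : ℕ) : A) * g p d n (d x) := ?_
      _ = _ := by rw [← hUP]; push_cast; ring
    rcases eq_or_ne (n % p) 0 with hr | hr
    · have hq : n / p ≠ 0 := fun h => hn (by rw [hr, h] at hnd; simpa using hnd.symm)
      have hN : U p (p * n) * p.uniformBell (n / p) = U p n ^ p * p.uniformBell n := by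
        apply Nat.eq_of_mul_eq_mul_right (Nat.mul_pos (pow_pos (Nat.mul_pos (pow_pos p.factorial_pos (n / p))
          (n / p).factorial_pos) p) p.factorial_pos)
        have hs := U_spec hp.ne_zero (p * n)
        rw [Nat.mul_div_cancel_left _ hp0] at hs
        have hb := Nat.uniformBell_mul_eq p hq
        rw [show p * (n / p) = n by rw [mul_comm]; omega] at hb
        calc _ = U p (p * n) * p.factorial ^ (n / p * p) * (p.uniformBell (n / p) * (n / p).factorial ^ p * p.factorial) := by
              rw [pow_mul]; ring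
          _ = (p * n).factorial := by rw [hb, show n / p * p = n by omega, hs]
          _ = p.uniformBell n * (U p n * p.factorial ^ (n / p) * (n / p).factorial) ^ p * p.factorial := by
              rw [U_spec hp.ne_zero, Nat.uniformBell_mul_eq p hn]
          _ = _ := by ring
      rw [hr, pow_zero, one_mul, ih _ (Nat.div_lt_self (Nat.pos_of_ne_zero hn) hp.one_lt) hq _ (hdI x hx),
        show p * (n / p) = n by rw [mul_comm]; omega, ← hN, Nat.cast_mul, mul_assoc]
    · obtain ⟨r, hr'⟩ := Nat.exists_eq_succ_of_ne_zero hr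
      have hg : Rules (fun (_ : Unit) k => g p d k (d x)) :=
        ⟨fun _ => g_zero hp _, fun _ k l => g_mul hp hA hdI h1 _ k l rfl _ (hdI x hx)⟩
      have hK := rules_one_pow_mul hg (r + 1) (n / p) p
      simp only [g_one hp hA] at hK
      rw [show r + 1 + n / p * p = n by omega] at hK
      have hdvd : (n / p).factorial ^ p ∣ n.factorial := by
        rcases eq_or_ne (n / p) 0 with h0 | h0
        · simp [h0]
        · refine dvd_trans ?_ (Nat.factorial_dvd_factorial (Nat.div_mul_le_self n p))
          rw [mul_comm (n / p) p]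
          exact ⟨p.uniformBell (n / p) * p.factorial, by rw [← Nat.uniformBell_mul_eq p h0]; ring⟩
      obtain ⟨K, hKn⟩ := hdvd
      have hK' : d x ^ (r + 1) * g p d (n / p) (d x) ^ p = (K : A) * g p d n (d x) := by
        haveI : IsAddTorsionFree (Model ℤ Unit) := torsionFree_model _ _
        let φ := (isModel_model ℤ Unit).lift hg
        have hφ : ∀ k, φ (xM ℤ Unit () k) = g p d k (d x) := fun k => (isModel_model ℤ Unit).lift_x hg () k
        have h := rules_one_pow_mul (A := Model ℤ Unit) (rules_xM ℤ Unit) (r + 1) (n / p) p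
        rw [show r + 1 + n / p * p = n by omega, hKn, Nat.cast_mul, mul_comm _ (((n / p).factorial ^ p : ℕ) : Model ℤ Unit),
          mul_assoc (((n / p).factorial ^ p : ℕ) : Model ℤ Unit), ← nsmul_eq_mul, ← nsmul_eq_mul] at h
        have := congrArg φ (nsmul_right_injective (pow_ne_zero p (n / p).factorial_ne_zero) h)
        simpa only [map_mul, map_pow, map_natCast, hφ, g_one hp hA] using this
      have hN : U p (p * n) * p.factorial ^ r * K = U p n ^ p * p.uniformBell n := by
        apply Nat.eq_of_mul_eq_mul_right (Nat.mul_pos (pow_pos (Nat.mul_pos (pow_pos p.factorial_pos (n / p))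
          (n / p).factorial_pos) p) p.factorial_pos)
        have hs := U_spec hp.ne_zero (p * n)
        rw [Nat.mul_div_cancel_left _ hp0] at hs
        calc _ = U p (p * n) * p.factorial ^ (r + 1 + n / p * p) * ((n / p).factorial ^ p * K) := by
              rw [pow_add, pow_add, pow_mul, pow_one]; ring
          _ = (p * n).factorial := by rw [← hKn, show r + 1 + n / p * p = n by omega, hs]
          _ = p.uniformBell n * (U p n * p.factorial ^ (n / p) * (n / p).factorial) ^ p * p.factorial := by
              rw [U_spec hp.ne_zero, Nat.uniformBell_mul_eq p hn]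
          _ = _ := by ring
      have hx' : x ^ (n % p) * g p d (n / p) (d x) = (x ^ r * g p d (n / p) (d x)) * x := by
        rw [hr', pow_succ]; ring
      rw [hx', h2 _ _ hx, mul_pow, ← pow_mul, mul_comm r p, pow_mul, ← h1 x hx, ← hN, mul_pow]
      push_cast
      calc (U p (p * n) : A) * ((p.factorial : A) ^ r * d x ^ r * g p d (n / p) (d x) ^ p * d x)
          = (U p (p * n) : A) * (p.factorial : A) ^ r * (d x ^ (r + 1) * g p d (n / p) (d x) ^ p) := by ring
        _ = _ := by rw [hK']; ring

end main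

theorem exists_dp_of_p {p : ℕ} (hp : p.Prime) (hA : ∀ n : ℕ, ¬ p ∣ n → IsUnit (n : A)) {I : Ideal A} (d : A → A)
    (hdI : ∀ x ∈ I, d x ∈ I) (h1 : ∀ x ∈ I, (p.factorial : A) * d x = x ^ p)
    (h2 : ∀ (a x : A), x ∈ I → d (a * x) = a ^ p * d x)
    (h3 : ∀ x ∈ I, ∀ y ∈ I, d (x + y) = d x + d y +
      ((Finset.HasAntidiagonal.antidiagonal p).filter fun k => 0 < k.1 ∧ 0 < k.2).sum
        fun k => Ring.inverse ((k.1.factorial * k.2.factorial : ℕ) : A) * x ^ k.1 * y ^ k.2) :
    ∃ γ : DividedPowers I, ∀ x ∈ I, γ.dpow p x = d x := by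
  classical
  let B0 := MvPolynomial A ℤ
  letI : Algebra B0 A := (MvPolynomial.eval₂Hom (Int.castRingHom A) id).toAlgebra
  haveI : IsAddTorsionFree (Model B0 I) := torsionFree_model _ _
  have hg := rules_g hp hA hdI h1
  let φ := (isModel_model B0 I).lift hg
  have hφx : ∀ (s : I) n, φ (xM B0 I s n) = g p d n (s : A) := fun s n => (isModel_model B0 I).lift_x hg s n
  obtain ⟨δ, -, hδ⟩ := exists_dp_torsionFree (B := B0) (P := Model B0 I) (rules_xM B0 I) (dividedPowersBot (A := B0))
  have hJ : ∀ l, xM B0 I l 1 ∈ (⊥ : Ideal B0).map (algebraMap B0 (Model B0 I)) ⊔ aug (xM B0 I) :=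
    fun l => Ideal.mem_sup_right (IsModel.x_mem_aug one_ne_zero)
  have hspan : (⊥ : Ideal B0).map (algebraMap B0 (Model B0 I)) ⊔ aug (xM B0 I) =
      Ideal.span {y : Model B0 I | ∃ (l : I) (n : ℕ), 1 ≤ n ∧ y = xM B0 I l n} := by
    rw [Ideal.map_bot, bot_sup_eq]; rfl
  have hsurj : Function.Surjective φ.toRingHom := fun a =>
    ⟨algebraMap B0 _ (MvPolynomial.X a), (φ.commutes _).trans (MvPolynomial.eval₂_X _ _ _)⟩
  have hd0 : d 0 = 0 := by
    have := h2 0 0 I.zero_mem
    rwa [mul_zero, zero_pow hp.ne_zero, zero_mul] at this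
  have hp0 := hp.pos
  have key : ∀ y ∈ (⊥ : Ideal B0).map (algebraMap B0 (Model B0 I)) ⊔ aug (xM B0 I),
      φ y ∈ I ∧ φ (δ.dpow p y) = d (φ y) := by
    intro y hy
    have hy' := hspan ▸ hy
    clear hy
    induction hy' using Submodule.span_induction with
    | mem y hy =>
      obtain ⟨l, k, hk, rfl⟩ := hy
      rw [hφx]
      refine ⟨g_mem hp hA hdI _ (by omega) _ l.2, ?_⟩
      rw [dpow_x δ hJ hδ l (by omega) p, map_mul, map_natCast, hφx,
        d_g hp hA hdI h1 h2 k (by omega) _ l.2]
    | zero =>
      refine ⟨by simp, ?_⟩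
      rw [δ.dpow_eval_zero hp.ne_zero, map_zero, hd0]
    | add y z hy hz ihy ihz =>
      refine ⟨by rw [map_add]; exact I.add_mem ihy.1 ihz.1, ?_⟩
      have hyJ := hspan.ge hy
      have hzJ := hspan.ge hz
      rw [δ.dpow_add hyJ hzJ, map_sum, map_add, h3 _ ihy.1 _ ihz.1,
        ← Finset.sum_filter_add_sum_filter_not _ (fun k : ℕ × ℕ => 0 < k.1 ∧ 0 < k.2) _, add_comm]
      have hends : ((Finset.HasAntidiagonal.antidiagonal p).filter fun k : ℕ × ℕ => ¬(0 < k.1 ∧ 0 < k.2)) =
          {(p, 0), (0, p)} := by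
        ext ⟨a, b⟩
        simp only [Finset.mem_filter, Finset.HasAntidiagonal.mem_antidiagonal, Finset.mem_insert,
          Finset.mem_singleton, Prod.mk.injEq]
        omega
      rw [hends, Finset.sum_pair (by simp only [ne_eq, Prod.mk.injEq]; omega)]
      congr 1
      · rw [map_mul, map_mul, δ.dpow_zero hzJ, δ.dpow_zero hyJ, map_one, mul_one, one_mul, ihy.2, ihz.2]
      · refine Finset.sum_congr rfl fun k hk => ?_
        simp only [Finset.mem_filter, Finset.HasAntidiagonal.mem_antidiagonal] at hk
        have hu : IsUnit ((k.1.factorial * k.2.factorial : ℕ) : A) := hA _ fun hd => by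
          rcases hp.dvd_mul.1 hd with hd | hd <;> have := hp.dvd_factorial.1 hd <;> omega
        rw [mul_assoc (Ring.inverse _)]
        refine hu.mul_left_cancel ?_
        rw [← mul_assoc _ (Ring.inverse _), Ring.mul_inverse_cancel _ hu, one_mul, ← map_natCast φ, ← map_mul, ← map_pow,
          ← map_pow, ← map_mul, Nat.cast_mul, mul_mul_mul_comm, δ.factorial_mul_dpow_eq_pow hyJ,
          δ.factorial_mul_dpow_eq_pow hzJ]
    | smul r y hy ihy =>
      refine ⟨by rw [smul_eq_mul, map_mul]; exact I.mul_mem_left _ ihy.1, ?_⟩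
      rw [smul_eq_mul, δ.dpow_mul (hspan.ge hy), map_mul, map_pow, ihy.2, map_mul, h2 _ _ ihy.1]
  have hker : ∀ n : ℕ, n ≠ 0 → ∀ y ∈ (⊥ : Ideal B0).map (algebraMap B0 (Model B0 I)) ⊔ aug (xM B0 I),
      φ y = 0 → φ (δ.dpow n y) = 0 := by
    intro n
    induction n using Nat.strong_induction_on with
    | _ n ih =>
      intro hn y hy hy0
      rcases Nat.lt_or_ge n p with hnp | hnp
      · refine (hA _ fun hd => by have := hp.dvd_factorial.1 hd; omega : IsUnit (n.factorial : A)).mul_left_cancel ?_
        rw [← map_natCast φ, ← map_mul, δ.factorial_mul_dpow_eq_pow hy, map_pow, hy0, zero_pow hn, mul_zero]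
      · have hq : n / p ≠ 0 := (Nat.div_pos hnp hp0).ne'
        have hnd := Nat.mod_add_div' n p
        have h0 : φ (δ.dpow p y) = 0 := by rw [(key y hy).2, hy0, hd0]
        have h1' := ih _ (Nat.div_lt_self (by omega) hp.one_lt) hq _ (δ.dpow_mem hp.ne_zero hy) h0
        refine (hA _ (not_dvd_U hp n)).mul_left_cancel ?_
        rw [← map_natCast φ, ← map_mul, U, Nat.cast_mul, Nat.cast_mul]
        have e : δ.dpow (n % p) y * δ.dpow (n / p * p) y = (n.choose (n % p) : Model B0 I) * δ.dpow n y := by
          rw [δ.mul_dpow hy, hnd]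
        calc φ ((n.choose (n % p) : Model B0 I) * ((n / p).uniformBell p : Model B0 I) *
              ((n % p).factorial : Model B0 I) * δ.dpow n y)
            = φ (((n % p).factorial : Model B0 I) * ((n / p).uniformBell p : Model B0 I) *
              ((n.choose (n % p) : Model B0 I) * δ.dpow n y)) := congrArg φ (by ring)
          _ = φ (((n % p).factorial : Model B0 I) * δ.dpow (n % p) y *
              (((n / p).uniformBell p : Model B0 I) * δ.dpow (n / p * p) y)) := congrArg φ (by rw [← e]; ring)
          _ = _ := by rw [← δ.dpow_comp hp.ne_zero hy, map_mul, h1', mul_zero, mul_zero]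
  have hJmap : I = ((⊥ : Ideal B0).map (algebraMap B0 (Model B0 I)) ⊔ aug (xM B0 I)).map φ.toRingHom := by
    refine le_antisymm (fun a ha => ?_) (Ideal.map_le_iff_le_comap.2 fun y hy => (key y hy).1)
    have := Ideal.mem_map_of_mem φ.toRingHom (hJ ⟨a, ha⟩)
    rwa [show φ.toRingHom (xM B0 I ⟨a, ha⟩ 1) = a from (hφx _ _).trans (g_one hp hA a)] at this
  have hsub : δ.IsSubDPIdeal (RingHom.ker φ.toRingHom ⊓
      ((⊥ : Ideal B0).map (algebraMap B0 (Model B0 I)) ⊔ aug (xM B0 I))) :=
    ⟨inf_le_right, fun n hn y hy => ⟨hker n hn y hy.2 hy.1, δ.dpow_mem hn hy.2⟩⟩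
  refine ⟨Quotient.OfSurjective.dividedPowers δ hsurj hJmap hsub, fun x hx => ?_⟩
  obtain ⟨y, hy, rfl⟩ := (Ideal.mem_map_iff_of_surjective φ.toRingHom hsurj).1 (hJmap ▸ hx)
  refine (Quotient.OfSurjective.dpow_apply δ hsurj hJmap hsub hy).trans ?_
  exact (key y hy).2

end DPExtLib
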