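import Mathlib
import Groth.Agent.DPPolyLib.Exist

/-! Divided powers from data satisfying the axioms on generators. -/

set_option autoImplicit false

open DividedPowers

universe u

namespace DPExtLib

open DPPolyLib

theorem exists_dp_of_gens {A : Type u} [CommRing A] (I : Ideal A) (S : Set A)
    (hS : Ideal.span S = I) (d : ℕ → A → A) (h_null : ∀ (n : ℕ) (x : A), x ∉ I → d n x = 0)
    (h_zero : ∀ x ∈ I, d 0 x = 1) (h_one : ∀ x ∈ I, d 1 x = x)
    (h_mem : ∀ (n : ℕ) (x : A), n ≠ 0 → x ∈ I → d n x ∈ I)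
    (h_add : ∀ (n : ℕ) (x y : A), x ∈ I → y ∈ I →
      d n (x + y) = (Finset.HasAntidiagonal.antidiagonal n).sum fun k => d k.1 x * d k.2 y)
    (h_mul : ∀ (n : ℕ) (a x : A), x ∈ I → d n (a * x) = a ^ n * d n x)
    (h_mul_dpow : ∀ (m n : ℕ) (x : A), x ∈ S → d m x * d n x = (m + n).choose m * d (m + n) x)
    (h_comp : ∀ (m n : ℕ) (x : A), n ≠ 0 → x ∈ S →
      d m (d n x) = Nat.uniformBell m n * d (m * n) x) :
    ∃ γ : DividedPowers I, γ.dpow = d := by
  classical
  let B0 := MvPolynomial A ℤ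
  letI : Algebra B0 A := (MvPolynomial.eval₂Hom (Int.castRingHom A) id).toAlgebra
  haveI : IsAddTorsionFree (Model B0 S) := torsionFree_model _ _
  have hSI : ∀ s ∈ S, s ∈ I := fun s hs => hS ▸ Ideal.subset_span hs
  have hg : Rules (fun (s : S) n => d n (s : A)) :=
    ⟨fun s => h_zero _ (hSI _ s.2), fun s n m => h_mul_dpow n m s s.2⟩
  let φ := (isModel_model B0 S).lift hg
  have hφx : ∀ (s : S) n, φ (xM B0 S s n) = d n (s : A) := fun s n => (isModel_model B0 S).lift_x hg s n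
  obtain ⟨δ, -, hδ⟩ := exists_dp_torsionFree (B := B0) (P := Model B0 S) (rules_xM B0 S) (dividedPowersBot (A := B0))
  have hJ : ∀ l, xM B0 S l 1 ∈ (⊥ : Ideal B0).map (algebraMap B0 (Model B0 S)) ⊔ aug (xM B0 S) :=
    fun l => Ideal.mem_sup_right (IsModel.x_mem_aug one_ne_zero)
  have hspan : (⊥ : Ideal B0).map (algebraMap B0 (Model B0 S)) ⊔ aug (xM B0 S) =
      Ideal.span {y : Model B0 S | ∃ (l : S) (n : ℕ), 1 ≤ n ∧ y = xM B0 S l n} := by
    rw [Ideal.map_bot, bot_sup_eq]; rfl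
  have hsurj : Function.Surjective φ := fun a =>
    ⟨algebraMap B0 _ (MvPolynomial.X a), (φ.commutes _).trans (MvPolynomial.eval₂_X _ _ _)⟩
  have key : ∀ y ∈ (⊥ : Ideal B0).map (algebraMap B0 (Model B0 S)) ⊔ aug (xM B0 S),
      φ y ∈ I ∧ ∀ n, φ (δ.dpow n y) = d n (φ y) := by
    intro y hy
    have hy' := hspan ▸ hy
    clear hy
    induction hy' using Submodule.span_induction with
    | mem y hy =>
      obtain ⟨l, k, hk, rfl⟩ := hy
      rw [hφx]
      refine ⟨h_mem _ _ (by omega) (hSI _ l.2), fun n => ?_⟩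
      rw [dpow_x δ hJ hδ l (by omega) n, map_mul, map_natCast, hφx, h_comp n k _ (by omega) l.2]
    | zero =>
      refine ⟨by simp, fun n => ?_⟩
      rcases eq_or_ne n 0 with rfl | hn
      · rw [δ.dpow_zero (Submodule.zero_mem _), map_one, map_zero, h_zero 0 I.zero_mem]
      · rw [δ.dpow_eval_zero hn, map_zero]
        have := h_mul n 0 0 I.zero_mem
        rw [mul_zero, zero_pow hn, zero_mul] at this
        exact this.symm
    | add y z hy hz ihy ihz =>
      refine ⟨by rw [map_add]; exact I.add_mem ihy.1 ihz.1, fun n => ?_⟩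
      rw [δ.dpow_add (hspan ▸ hy) (hspan ▸ hz), map_sum, map_add, h_add n _ _ ihy.1 ihz.1]
      exact Finset.sum_congr rfl fun k _ => by rw [map_mul, ihy.2, ihz.2]
    | smul r y hy ihy =>
      refine ⟨by rw [smul_eq_mul, map_mul]; exact I.mul_mem_left _ ihy.1, fun n => ?_⟩
      rw [smul_eq_mul, δ.dpow_mul (hspan ▸ hy), map_mul, map_pow, ihy.2, map_mul, h_mul _ _ _ ihy.1]
  have hlift : ∀ x ∈ I, ∃ y ∈ (⊥ : Ideal B0).map (algebraMap B0 (Model B0 S)) ⊔ aug (xM B0 S), φ y = x := by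
    intro x hx
    rw [← hS] at hx
    induction hx using Submodule.span_induction with
    | mem x hx => exact ⟨_, hJ ⟨x, hx⟩, (hφx _ _).trans (h_one _ (hSI _ hx))⟩
    | zero => exact ⟨0, Submodule.zero_mem _, map_zero _⟩
    | add x y _ _ ihx ihy =>
      obtain ⟨a, ha, rfl⟩ := ihx
      obtain ⟨c, hc, rfl⟩ := ihy
      exact ⟨a + c, add_mem ha hc, map_add _ _ _⟩
    | smul r x _ ihx =>
      obtain ⟨a, ha, rfl⟩ := ihx
      obtain ⟨c, rfl⟩ := hsurj r
      exact ⟨c * a, Ideal.mul_mem_left _ _ ha, map_mul _ _ _⟩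
  exact ⟨{
    dpow := d
    dpow_null := fun {n x} hx => h_null n x hx
    dpow_zero := fun {x} hx => h_zero x hx
    dpow_one := fun {x} hx => h_one x hx
    dpow_mem := fun {n x} hn hx => h_mem n x hn hx
    dpow_add := fun {n x y} hx hy => h_add n x y hx hy
    dpow_mul := fun {n a x} hx => h_mul n a x hx
    mul_dpow := fun {m n x} hx => by
      obtain ⟨y, hy, rfl⟩ := hlift x hx
      simp only [← (key y hy).2]
      rw [← map_mul, δ.mul_dpow hy, map_mul, map_natCast]
    dpow_comp := fun {m n x} hn hx => by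
      obtain ⟨y, hy, rfl⟩ := hlift x hx
      rw [← (key y hy).2 n, ← (key _ (δ.dpow_mem hn hy)).2 m, δ.dpow_comp hn hy, map_mul, map_natCast,
        (key y hy).2] }, rfl⟩

end DPExtLib
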