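import Mathlib
import Groth.Agent.DPExtLib.OfGens

/-! Sums of ideals, principal ideals and flat extensions. -/

set_option autoImplicit false

open DividedPowers TensorProduct

universe u v

namespace DPExtLib

section sup

variable {A : Type u} [CommRing A] {I J : Ideal A} (γ : DividedPowers I) (δ : DividedPowers J)

theorem exists_sup (h : ∀ (n : ℕ) (x : A), x ∈ I ⊓ J → γ.dpow n x = δ.dpow n x) :
    ∃ ε : DividedPowers (I ⊔ J),
      (∀ (n : ℕ) (x : A), x ∈ I → ε.dpow n x = γ.dpow n x) ∧
        (∀ (n : ℕ) (x : A), x ∈ J → ε.dpow n x = δ.dpow n x) := by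
  classical
  have hexp : ∀ z ∈ I ⊓ J, γ.exp z = δ.exp z := fun z hz => PowerSeries.ext fun n => by
    simp [DividedPowers.exp, h n z hz]
  have hwd : ∀ {x x' y y' : A}, x ∈ I → x' ∈ I → y ∈ J → y' ∈ J → x + y = x' + y' →
      γ.exp x * δ.exp y = γ.exp x' * δ.exp y' := by
    intro x x' y y' hx hx' hy hy' he
    have hz : x' - x = y - y' := by linear_combination -he
    have hzI : x' - x ∈ I ⊓ J := ⟨I.sub_mem hx' hx, hz ▸ J.sub_mem hy hy'⟩
    conv_rhs => rw [← add_sub_cancel x x', γ.exp_add hx hzI.1, mul_assoc, hexp _ hzI, hz,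
      ← δ.exp_add (J.sub_mem hy hy') hy', sub_add_cancel]
  let d : ℕ → A → A := fun n z => if hz : ∃ x ∈ I, ∃ y ∈ J, x + y = z then
    PowerSeries.coeff n (γ.exp hz.choose * δ.exp hz.choose_spec.2.choose) else 0
  have hd : ∀ n x y, x ∈ I → y ∈ J → d n (x + y) = PowerSeries.coeff n (γ.exp x * δ.exp y) := by
    intro n x y hx hy
    have hz : ∃ a ∈ I, ∃ b ∈ J, a + b = x + y := ⟨x, hx, y, hy, rfl⟩
    simp only [d, dif_pos hz]
    rw [hwd hz.choose_spec.1 hx hz.choose_spec.2.choose_spec.1 hy hz.choose_spec.2.choose_spec.2]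
  have hexp0γ : γ.exp 0 = 1 := PowerSeries.ext fun n => by
    rcases eq_or_ne n 0 with rfl | hn
    · simp [DividedPowers.exp, γ.dpow_zero I.zero_mem]
    · simp [DividedPowers.exp, γ.dpow_eval_zero hn, PowerSeries.coeff_one, hn]
  have hexp0δ : δ.exp 0 = 1 := PowerSeries.ext fun n => by
    rcases eq_or_ne n 0 with rfl | hn
    · simp [DividedPowers.exp, δ.dpow_zero J.zero_mem]
    · simp [DividedPowers.exp, δ.dpow_eval_zero hn, PowerSeries.coeff_one, hn]
  have hI : ∀ n, ∀ x ∈ I, d n x = γ.dpow n x := fun n x hx => by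
    have e := hd n x 0 hx J.zero_mem
    rw [add_zero] at e
    rw [e, hexp0δ, mul_one]
    exact PowerSeries.coeff_mk _ _
  have hJ : ∀ n, ∀ y ∈ J, d n y = δ.dpow n y := fun n y hy => by
    have e := hd n 0 y I.zero_mem hy
    rw [zero_add] at e
    rw [e, hexp0γ, one_mul]
    exact PowerSeries.coeff_mk _ _
  have hmem : ∀ z ∈ I ⊔ J, ∃ x ∈ I, ∃ y ∈ J, x + y = z := fun z hz => Submodule.mem_sup.1 hz
  obtain ⟨ε, hε⟩ := exists_dp_of_gens (I ⊔ J) ((I : Set A) ∪ J)
    (by rw [Ideal.span_union, Ideal.span_eq, Ideal.span_eq]) d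
    (fun n z hz => dif_neg fun ⟨x, hx, y, hy, e⟩ => hz (Submodule.mem_sup.2 ⟨x, hx, y, hy, e⟩))
    (fun z hz => by
      obtain ⟨x, hx, y, hy, rfl⟩ := hmem z hz
      rw [hd 0 x y hx hy, PowerSeries.coeff_zero_eq_constantCoeff_apply, map_mul]
      simp [DividedPowers.exp, ← PowerSeries.coeff_zero_eq_constantCoeff_apply, γ.dpow_zero hx, δ.dpow_zero hy])
    (fun z hz => by
      obtain ⟨x, hx, y, hy, rfl⟩ := hmem z hz
      rw [hd 1 x y hx hy, PowerSeries.coeff_mul, show Finset.HasAntidiagonal.antidiagonal 1 = {(0, 1), (1, 0)} from rfl]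
      simp [DividedPowers.exp, γ.dpow_zero hx, δ.dpow_zero hy, γ.dpow_one hx, δ.dpow_one hy, add_comm])
    (fun n z hn hz => by
      obtain ⟨x, hx, y, hy, rfl⟩ := hmem z hz
      rw [hd n x y hx hy, PowerSeries.coeff_mul]
      refine Ideal.sum_mem _ fun k hk => ?_
      rw [Finset.HasAntidiagonal.mem_antidiagonal] at hk
      simp only [DividedPowers.exp, PowerSeries.coeff_mk]
      rcases eq_or_ne k.1 0 with h0 | h0
      · exact Ideal.mul_mem_left _ _ (Ideal.mem_sup_right (δ.dpow_mem (by omega) hy))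
      · exact Ideal.mul_mem_right _ _ (Ideal.mem_sup_left (γ.dpow_mem h0 hx)))
    (fun n z z' hz hz' => by
      obtain ⟨x, hx, y, hy, rfl⟩ := hmem z hz
      obtain ⟨x', hx', y', hy', rfl⟩ := hmem z' hz'
      rw [add_add_add_comm, hd n _ _ (I.add_mem hx hx') (J.add_mem hy hy'), γ.exp_add hx hx', δ.exp_add hy hy',
        mul_mul_mul_comm, PowerSeries.coeff_mul]
      exact Finset.sum_congr rfl fun k _ => by rw [hd _ _ _ hx hy, hd _ _ _ hx' hy'])
    (fun n a z hz => by
      obtain ⟨x, hx, y, hy, rfl⟩ := hmem z hz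
      rw [mul_add, hd n _ _ (I.mul_mem_left a hx) (J.mul_mem_left a hy), hd n x y hx hy,
        PowerSeries.coeff_mul, PowerSeries.coeff_mul, Finset.mul_sum]
      refine Finset.sum_congr rfl fun k hk => ?_
      rw [Finset.HasAntidiagonal.mem_antidiagonal] at hk
      simp only [DividedPowers.exp, PowerSeries.coeff_mk]
      rw [γ.dpow_mul hx, δ.dpow_mul hy, ← hk, pow_add]
      ring)
    (fun m n z hz => by
      rcases hz with hz | hz
      · rw [hI _ _ hz, hI _ _ hz, hI _ _ hz, γ.mul_dpow hz]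
      · rw [hJ _ _ hz, hJ _ _ hz, hJ _ _ hz, δ.mul_dpow hz])
    (fun m n z hn hz => by
      rcases hz with hz | hz
      · rw [hI _ _ hz, hI _ _ hz, hI _ _ (γ.dpow_mem hn hz), γ.dpow_comp hn hz]
      · rw [hJ _ _ hz, hJ _ _ hz, hJ _ _ (δ.dpow_mem hn hz), δ.dpow_comp hn hz])
  refine ⟨ε, fun n x hx => ?_, fun n x hx => ?_⟩
  · rw [hε]; exact hI n x hx
  · rw [hε]; exact hJ n x hx

end sup

variable {A : Type u} {B : Type v} [CommRing A] [CommRing B] [Algebra A B]

theorem ext_unique {I : Ideal A} (γ : DividedPowers I) (δ δ' : DividedPowers (I.map (algebraMap A B)))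
    (h : γ.IsDPMorphism δ (algebraMap A B)) (h' : γ.IsDPMorphism δ' (algebraMap A B)) : δ = δ' := by
  refine dpow_eq_from_gens δ' δ (S := algebraMap A B '' I) rfl ?_
  rintro n _ ⟨a, ha, rfl⟩
  rw [h.dpow_comp a ha, h'.dpow_comp a ha]

theorem exists_ext_principal (x : A) (γ : DividedPowers (Ideal.span {x})) :
    ∃ δ : DividedPowers ((Ideal.span {x}).map (algebraMap A B)), γ.IsDPMorphism δ (algebraMap A B) := by
  classical
  set φ := algebraMap A B with hφ
  have hx : x ∈ Ideal.span {x} := Ideal.mem_span_singleton_self x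
  have hwd : ∀ (b c : B) n, b * φ x = c * φ x → b ^ n * φ (γ.dpow n x) = c ^ n * φ (γ.dpow n x) := by
    intro b c n he
    rcases eq_or_ne n 0 with rfl | hn
    · simp
    obtain ⟨a, ha⟩ := Ideal.mem_span_singleton.1 (γ.dpow_mem hn hx)
    obtain ⟨q, hq⟩ := sub_dvd_pow_sub_pow b c n
    rw [ha, map_mul]
    linear_combination (φ x * φ a) * hq + (q * φ a) * he
  let d : ℕ → B → B := fun n z => if hz : ∃ b : B, b * φ x = z then hz.choose ^ n * φ (γ.dpow n x) else 0
  have hd : ∀ n b, d n (b * φ x) = b ^ n * φ (γ.dpow n x) := fun n b => by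
    have hz : ∃ c : B, c * φ x = b * φ x := ⟨b, rfl⟩
    simp only [d, dif_pos hz]
    exact hwd _ _ n hz.choose_spec
  have hmap : (Ideal.span {x}).map φ = Ideal.span {φ x} := by rw [Ideal.map_span, Set.image_singleton]
  have hmem : ∀ z ∈ (Ideal.span {x}).map φ, ∃ b : B, b * φ x = z := fun z hz => by
    rw [hmap] at hz; exact Ideal.mem_span_singleton'.1 hz
  have hd1 : ∀ n, ∀ a ∈ Ideal.span {x}, d n (φ a) = φ (γ.dpow n a) := fun n a ha => by
    obtain ⟨c, rfl⟩ := Ideal.mem_span_singleton'.1 ha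
    rw [map_mul, hd, γ.dpow_mul hx, map_mul, map_pow]
  obtain ⟨δ, hδ⟩ := exists_dp_of_gens ((Ideal.span {x}).map φ) {φ x} hmap.symm d
    (fun n z hz => dif_neg fun ⟨b, e⟩ => hz (e ▸ Ideal.mul_mem_left _ _ (Ideal.mem_map_of_mem φ hx)))
    (fun z hz => by obtain ⟨b, rfl⟩ := hmem z hz; rw [hd, γ.dpow_zero hx, map_one, pow_zero, one_mul])
    (fun z hz => by obtain ⟨b, rfl⟩ := hmem z hz; rw [hd, γ.dpow_one hx, pow_one])
    (fun n z hn hz => by
      obtain ⟨b, rfl⟩ := hmem z hz
      rw [hd]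
      exact Ideal.mul_mem_left _ _ (Ideal.mem_map_of_mem φ (γ.dpow_mem hn hx)))
    (fun n z z' hz hz' => by
      obtain ⟨b, rfl⟩ := hmem z hz
      obtain ⟨c, rfl⟩ := hmem z' hz'
      rw [← add_mul, hd, (Commute.all b c).add_pow', Finset.sum_mul]
      refine Finset.sum_congr rfl fun k hk => ?_
      rw [Finset.HasAntidiagonal.mem_antidiagonal] at hk
      rw [hd, hd, mul_mul_mul_comm, ← map_mul, γ.mul_dpow hx, map_mul, map_natCast, hk, nsmul_eq_mul]
      ring)
    (fun n a z hz => by
      obtain ⟨b, rfl⟩ := hmem z hz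
      rw [← mul_assoc, hd, hd, mul_pow, mul_assoc])
    (fun m n z hz => by
      rw [Set.mem_singleton_iff] at hz
      subst hz
      rw [hd1 _ _ hx, hd1 _ _ hx, hd1 _ _ hx, ← map_mul, γ.mul_dpow hx, map_mul, map_natCast])
    (fun m n z hn hz => by
      rw [Set.mem_singleton_iff] at hz
      subst hz
      rw [hd1 _ _ hx, hd1 _ _ hx, hd1 _ _ (γ.dpow_mem hn hx), γ.dpow_comp hn hx, map_mul, map_natCast])
  exact ⟨δ, le_rfl, fun {n} a ha => by rw [hδ]; exact hd1 n a ha⟩

theorem exists_ext_flat {I : Ideal A} (γ : DividedPowers I) [Module.Flat A B] :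
    ∃ δ : DividedPowers (I.map (algebraMap A B)), γ.IsDPMorphism δ (algebraMap A B) := by
  classical
  set φ := algebraMap A B with hφ
  let F : I → B → PowerSeries B := fun a b => PowerSeries.mk fun n => b ^ n * φ (γ.dpow n (a : A))
  have hFa : ∀ (a a' : I) b, F (a + a') b = F a b * F a' b := fun a a' b => PowerSeries.ext fun n => by
    simp only [F, PowerSeries.coeff_mk, PowerSeries.coeff_mul, Submodule.coe_add, γ.dpow_add a.2 a'.2, map_sum,
      Finset.mul_sum]
    refine Finset.sum_congr rfl fun k hk => ?_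
    rw [Finset.HasAntidiagonal.mem_antidiagonal] at hk
    rw [map_mul, ← hk, pow_add]
    ring
  have hFb : ∀ (a : I) b b', F a (b + b') = F a b * F a b' := fun a b b' => PowerSeries.ext fun n => by
    simp only [F, PowerSeries.coeff_mk, PowerSeries.coeff_mul, (Commute.all b b').add_pow', Finset.sum_mul]
    refine Finset.sum_congr rfl fun k hk => ?_
    rw [Finset.HasAntidiagonal.mem_antidiagonal] at hk
    rw [mul_mul_mul_comm, ← map_mul, γ.mul_dpow a.2, map_mul, map_natCast, hk, nsmul_eq_mul]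
    ring
  have hF0a : ∀ b, F 0 b = 1 := fun b => PowerSeries.ext fun n => by
    rcases eq_or_ne n 0 with rfl | hn
    · simp [F, γ.dpow_zero I.zero_mem]
    · simp [F, γ.dpow_eval_zero hn, PowerSeries.coeff_one, hn]
  have hF0b : ∀ a, F a 0 = 1 := fun a => PowerSeries.ext fun n => by
    rcases eq_or_ne n 0 with rfl | hn
    · simp [F, γ.dpow_zero a.2]
    · simp [F, PowerSeries.coeff_one, hn]
  let E : I ⊗[A] B →+ Additive (PowerSeries B) := TensorProduct.liftAddHom
    { toFun := fun a =>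
        { toFun := fun b => Additive.ofMul (F a b)
          map_zero' := by rw [hF0b, ofMul_one]
          map_add' := fun b b' => by rw [hFb, ofMul_mul] }
      map_zero' := AddMonoidHom.ext fun b => by
        show Additive.ofMul (F 0 b) = 0
        rw [hF0a, ofMul_one]
      map_add' := fun a a' => AddMonoidHom.ext fun b => by
        show Additive.ofMul (F (a + a') b) = Additive.ofMul (F a b) + Additive.ofMul (F a' b)
        rw [hFa, ofMul_mul] }
    fun r a b => by
      show Additive.ofMul (F (r • a) b) = Additive.ofMul (F a (r • b))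
      refine congrArg Additive.ofMul (PowerSeries.ext fun n => ?_)
      simp only [F, PowerSeries.coeff_mk, Submodule.coe_smul, smul_eq_mul, γ.dpow_mul a.2, map_mul, map_pow,
        Algebra.smul_def, mul_pow]
      ring
  let e : I ⊗[A] B → PowerSeries B := fun t => (E t).toMul
  have he0 : e 0 = 1 := by simp [e]
  have hea : ∀ t t', e (t + t') = e t * e t' := fun t t' => by simp [e]
  have het : ∀ a b, e (a ⊗ₜ b) = F a b := fun a b => rfl
  let μ : I ⊗[A] B →ₗ[A] B := TensorProduct.lift ((Algebra.lsmul A A B).toLinearMap ∘ₗ I.subtype)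
  have hμt : ∀ (a : I) b, μ (a ⊗ₜ b) = φ (a : A) * b := fun a b => Algebra.smul_def (a : A) b
  have hinj : Function.Injective μ := by
    have h := (Module.Flat.iff_rTensor_injective' (R := A) (M := B)).1 inferInstance I
    have : μ = (TensorProduct.lid A B).toLinearMap ∘ₗ I.subtype.rTensor B := TensorProduct.ext' fun a b => by
      simp [μ]
    rw [this]
    exact (TensorProduct.lid A B).injective.comp h
  let sc : B → I ⊗[A] B →ₗ[A] I ⊗[A] B := fun c => (Algebra.lsmul A A B c).lTensor I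
  have hμs : ∀ c t, μ (sc c t) = c * μ t := fun c t => by
    induction t using TensorProduct.induction_on with
    | zero => simp
    | tmul a b => simp [sc, hμt]; ring
    | add t t' ht ht' => simp [ht, ht', mul_add]
  have hes : ∀ c t, e (sc c t) = PowerSeries.rescale c (e t) := fun c t => by
    induction t using TensorProduct.induction_on with
    | zero => simp [he0]
    | tmul a b =>
      refine PowerSeries.ext fun n => ?_
      simp only [sc, LinearMap.lTensor_tmul, het, PowerSeries.coeff_rescale]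
      simp [F, mul_pow, mul_assoc]
    | add t t' ht ht' => simp [hea, ht, ht']
  have hrange : ∀ z, z ∈ I.map φ ↔ ∃ t, μ t = z := fun z => by
    refine ⟨fun hz => ?_, ?_⟩
    · induction hz using Submodule.span_induction with
      | mem y hy => obtain ⟨a, ha, rfl⟩ := hy; exact ⟨(⟨a, ha⟩ : I) ⊗ₜ 1, by rw [hμt, mul_one]⟩
      | zero => exact ⟨0, map_zero μ⟩
      | add y y' _ _ ihy ihy' =>
        obtain ⟨t, rfl⟩ := ihy; obtain ⟨t', rfl⟩ := ihy'; exact ⟨t + t', map_add μ t t'⟩
      | smul c y _ ihy => obtain ⟨t, rfl⟩ := ihy; exact ⟨sc c t, hμs c t⟩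
    · rintro ⟨t, rfl⟩
      induction t using TensorProduct.induction_on with
      | zero => simp
      | tmul a b => rw [hμt]; exact Ideal.mul_mem_right _ _ (Ideal.mem_map_of_mem φ a.2)
      | add t t' ht ht' => rw [map_add]; exact add_mem ht ht'
  let d : ℕ → B → B := fun n z => if hz : ∃ t, μ t = z then PowerSeries.coeff n (e hz.choose) else 0
  have hd : ∀ n t, d n (μ t) = PowerSeries.coeff n (e t) := fun n t => by
    have hz : ∃ t', μ t' = μ t := ⟨t, rfl⟩
    simp only [d, dif_pos hz]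
    rw [hinj hz.choose_spec]
  have hd1 : ∀ n, ∀ a ∈ I, d n (φ a) = φ (γ.dpow n a) := fun n a ha => by
    rw [← mul_one (φ a), ← hμt ⟨a, ha⟩, hd, het]
    simp [F]
  have hc0 : ∀ t, PowerSeries.coeff 0 (e t) = 1 := fun t => by
    induction t using TensorProduct.induction_on with
    | zero => simp [he0]
    | tmul a b => simp [het, F, γ.dpow_zero a.2]
    | add t t' ht ht' => simp [hea, PowerSeries.coeff_mul, ht, ht']
  obtain ⟨δ, hδ⟩ := exists_dp_of_gens (I.map φ) (φ '' I) rfl d
    (fun n z hz => dif_neg fun hz' => hz ((hrange z).2 hz'))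
    (fun z hz => by obtain ⟨t, rfl⟩ := (hrange z).1 hz; rw [hd, hc0])
    (fun z hz => by
      obtain ⟨t, rfl⟩ := (hrange z).1 hz
      rw [hd]
      clear hz
      induction t using TensorProduct.induction_on with
      | zero => simp [he0]
      | tmul a b => simp [het, F, γ.dpow_one a.2, hμt, mul_comm]
      | add t t' ht ht' =>
        rw [hea, PowerSeries.coeff_mul, show Finset.HasAntidiagonal.antidiagonal 1 = {(0, 1), (1, 0)} from rfl]
        simp [ht, ht', hc0, add_comm])
    (fun n z hn hz => by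
      obtain ⟨t, rfl⟩ := (hrange z).1 hz
      rw [hd]
      clear hz
      induction t using TensorProduct.induction_on generalizing n with
      | zero => simp [he0, PowerSeries.coeff_one, hn]
      | tmul a b =>
        rw [het]
        simp only [F, PowerSeries.coeff_mk]
        exact Ideal.mul_mem_left _ _ (Ideal.mem_map_of_mem φ (γ.dpow_mem hn a.2))
      | add t t' ht ht' =>
        rw [hea, PowerSeries.coeff_mul]
        refine Ideal.sum_mem _ fun k hk => ?_
        rw [Finset.HasAntidiagonal.mem_antidiagonal] at hk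
        rcases eq_or_ne k.1 0 with h0 | h0
        · exact Ideal.mul_mem_left _ _ (ht' _ (by omega))
        · exact Ideal.mul_mem_right _ _ (ht _ h0))
    (fun n z z' hz hz' => by
      obtain ⟨t, rfl⟩ := (hrange z).1 hz
      obtain ⟨t', rfl⟩ := (hrange z').1 hz'
      rw [← map_add, hd, hea, PowerSeries.coeff_mul]
      exact Finset.sum_congr rfl fun k _ => by rw [hd, hd])
    (fun n a z hz => by
      obtain ⟨t, rfl⟩ := (hrange z).1 hz
      rw [← hμs, hd, hd, hes, PowerSeries.coeff_rescale])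
    (fun m n z hz => by
      obtain ⟨a, ha, rfl⟩ := hz
      rw [hd1 _ _ ha, hd1 _ _ ha, hd1 _ _ ha, ← map_mul, γ.mul_dpow ha, map_mul, map_natCast])
    (fun m n z hn hz => by
      obtain ⟨a, ha, rfl⟩ := hz
      rw [hd1 _ _ ha, hd1 _ _ ha, hd1 _ _ (γ.dpow_mem hn ha), γ.dpow_comp hn ha, map_mul, map_natCast])
  exact ⟨δ, le_rfl, fun {n} a ha => by rw [hδ]; exact hd1 n a ha⟩

end DPExtLib
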